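import Groth.Agent.Lib.SLInt.Pairing
import Groth.Agent.Lib.Comod.Integral
import Groth.Agent.Lib.HM.SL
import Mathlib.LinearAlgebra.Matrix.MvPolynomial
import Mathlib.Algebra.MvPolynomial.Funext

/-!
# The invariant integral on `SL_n` in characteristic zero
-/

universe u

open MvPolynomial TensorProduct CoordGrp

namespace GrothLib.SLInt

variable {n : ℕ}

abbrev V (n : ℕ) : Type := Fin n × Fin n

/-- the determinant of the generic matrix -/
noncomputable def dt (n : ℕ) (B : Type u) [CommRing B] : MvPolynomial (V n) B := (Matrix.mvPolynomialX (Fin n) (Fin n) B).det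

theorem map_dt {B B' : Type u} [CommRing B] [CommRing B'] (φ : B →+* B') :
    MvPolynomial.map φ (dt n B) = dt n B' := by
  rw [dt, dt, RingHom.map_det]
  congr 1
  ext i j
  simp [Matrix.mvPolynomialX]

theorem isHomogeneous_dt (B : Type u) [CommRing B] : (dt n B).IsHomogeneous n := by
  rw [dt, Matrix.det_apply]
  refine IsHomogeneous.sum _ _ _ fun σ _ => ?_
  have h : (∏ i, Matrix.mvPolynomialX (Fin n) (Fin n) B (σ i) i).IsHomogeneous n := by
    have := IsHomogeneous.prod Finset.univ (fun i => Matrix.mvPolynomialX (Fin n) (Fin n) B (σ i) i) (fun _ => 1)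
      fun i _ => isHomogeneous_X _ _
    simpa using this
  rcases Int.units_eq_one_or (Equiv.Perm.sign σ) with hs | hs <;> rw [hs]
  · simpa using h
  · simpa using h.neg

/-- right multiplication of the generic matrix -/
noncomputable def rmul {B : Type u} [CommRing B] (M : Matrix (Fin n) (Fin n) B) :
    MvPolynomial (V n) B →ₐ[B] MvPolynomial (V n) B :=
  lsub fun p q => if p.1 = q.1 then M q.2 p.2 else 0

theorem rmul_X {B : Type u} [CommRing B] (M : Matrix (Fin n) (Fin n) B) (i j : Fin n) :
    rmul M (X (i, j)) = ∑ l, C (M l j) * X (i, l) := by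
  classical
  have h : rmul M (X (i, j)) = ∑ q : V n, C (if i = q.1 then M q.2 j else 0) * X q := by
    rw [rmul, lsub, aeval_X]
    exact Finset.sum_congr (Finset.ext fun _ => by simp) fun _ _ => rfl
  rw [h, Fintype.sum_prod_type, Finset.sum_eq_single i]
  · simp
  · intro a _ ha
    simp [Ne.symm ha]
  · exact fun h => absurd (Finset.mem_univ i) h

theorem pair_rmul {B : Type u} [CommRing B] (M : Matrix (Fin n) (Fin n) B) (P f : MvPolynomial (V n) B) :
    pair (rmul M P) f = pair P (rmul M.transpose f) := by
  rw [rmul, pair_lsub]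
  congr 2
  congr 1
  funext (p : V n) (q : V n)
  by_cases h : p.1 = q.1
  · simp [h]
  · simp [h, Ne.symm h]

theorem rmul_dt {B : Type u} [CommRing B] (M : Matrix (Fin n) (Fin n) B) :
    rmul M (dt n B) = C M.det * dt n B := by
  rw [dt, AlgHom.map_det]
  have : (rmul M).mapMatrix (Matrix.mvPolynomialX (Fin n) (Fin n) B) =
      Matrix.mvPolynomialX (Fin n) (Fin n) B * M.map (C : B →+* MvPolynomial (V n) B) := by
    ext i j : 1
    rw [AlgHom.mapMatrix_apply, Matrix.map_apply, Matrix.mvPolynomialX_apply, rmul_X, Matrix.mul_apply]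
    exact Finset.sum_congr rfl fun l _ => mul_comm _ _
  rw [this, Matrix.det_mul, mul_comm, RingHom.map_det]
  rfl

theorem rmul_isHomogeneous {B : Type u} [CommRing B] (M : Matrix (Fin n) (Fin n) B) {P : MvPolynomial (V n) B}
    {D : ℕ} (hP : P.IsHomogeneous D) : (rmul M P).IsHomogeneous D := by
  letI := Fintype.ofFinite (V n)
  have := hP.aeval (fun p : V n => ∑ q : V n, C (if p.1 = q.1 then M q.2 p.2 else 0) * X q) fun p =>
    IsHomogeneous.sum _ _ _ fun q _ => isHomogeneous_C_mul_X _ _
  rwa [one_mul] at this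

variable {k : Type u} [Field k] [CharZero k]

/-- `⟨det^m, det^m⟩` -/
noncomputable def rho (n : ℕ) (k : Type u) [Field k] (m : ℕ) : k := pair (dt n k ^ m) (dt n k ^ m)

theorem rho_ne_zero (m : ℕ) : rho n k m ≠ 0 := by
  haveI : Infinite ℚ := inferInstance
  let P : MvPolynomial (V n) ℚ := dt n ℚ ^ m
  have hP : P ≠ 0 := by
    refine pow_ne_zero _ fun h => ?_
    have := congrArg (MvPolynomial.eval fun p : V n => if p.1 = p.2 then (1 : ℚ) else 0) h
    rw [dt, RingHom.map_det, map_zero] at this
    rw [show (MvPolynomial.eval fun p : V n => if p.1 = p.2 then (1 : ℚ) else 0).mapMatrix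
      (Matrix.mvPolynomialX (Fin n) (Fin n) ℚ) = 1 from by
        ext i j; simp [Matrix.one_apply]] at this
    simp at this
  have hpos : 0 < pair P P := by
    rw [pair_sum]
    refine Finset.sum_pos (fun e he => ?_) (MvPolynomial.support_nonempty.2 hP)
    rw [mul_assoc]
    exact mul_pos (Nat.cast_pos.2 (efac_pos e)) (mul_self_pos.2 (mem_support_iff.1 he))
  have hmap : MvPolynomial.map (algebraMap ℚ k) P = dt n k ^ m := by
    rw [map_pow]
    congr 1
    rw [dt, dt, RingHom.map_det]
    congr 1
    ext i j
    simp [Matrix.mvPolynomialX]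
  rw [rho, ← hmap, pair_map (algebraMap ℚ k) P P]
  exact fun h => hpos.ne' ((map_eq_zero _).1 h)

/-- Multiplication by the determinant is compatible with the normalised functionals. -/
theorem pair_dt_mul (m : ℕ) (f : MvPolynomial (V n) k) :
    pair (dt n k ^ (m + 1)) (dt n k * f) * rho n k m = rho n k (m + 1) * pair (dt n k ^ m) f := by
  classical
  obtain ⟨Q, hQ⟩ := exists_adjoint (dt n k) (dt n k ^ (m + 1))
  have hQM : ∀ M : Matrix (Fin n) (Fin n) k, C M.det * rmul M Q = C M.det ^ (m + 1) * Q := fun M =>
    eq_of_pair fun g => by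
      rw [← map_pow, ← smul_eq_C_mul, ← smul_eq_C_mul, map_smul, map_smul, LinearMap.smul_apply,
        LinearMap.smul_apply, pair_rmul, ← hQ, ← hQ, smul_eq_mul, smul_eq_mul]
      have h1 : dt n k * rmul M.transpose g * C M.det = rmul M.transpose (dt n k * g) := by
        rw [map_mul, rmul_dt, Matrix.det_transpose]; ring
      have h2 : rmul M (dt n k ^ (m + 1)) = (M.det ^ (m + 1)) • dt n k ^ (m + 1) := by
        rw [map_pow, rmul_dt, mul_pow, ← map_pow, smul_eq_C_mul]
      calc M.det * pair (dt n k ^ (m + 1)) (dt n k * rmul M.transpose g)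
          = pair (dt n k ^ (m + 1)) (rmul M.transpose (dt n k * g)) := by
            rw [← h1, mul_comm _ (C M.det), ← smul_eq_C_mul, map_smul, smul_eq_mul]
        _ = M.det ^ (m + 1) * pair (dt n k ^ (m + 1)) (dt n k * g) := by
            rw [← pair_rmul, h2, map_smul, LinearMap.smul_apply, smul_eq_mul]
  let one : V n → k := fun p => if p.1 = p.2 then 1 else 0
  let c := eval one Q
  have hev : ∀ v : V n → k, eval v (dt n k * Q) = eval v (dt n k * (C c * dt n k ^ m)) := by
    intro v
    let M : Matrix (Fin n) (Fin n) k := fun i j => v (i, j)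
    have hdt : eval v (dt n k) = M.det := by
      rw [dt, RingHom.map_det]
      congr 1
      ext i j
      simp [M]
    have h1 : eval one (rmul M Q) = eval v Q :=
      DFunLike.congr_fun (f := (eval one).comp (rmul M).toRingHom) (g := eval v)
        (MvPolynomial.ringHom_ext (fun r => by simp [rmul, lsub]) fun p => by
          simp only [RingHom.comp_apply, AlgHom.toRingHom_eq_coe, RingHom.coe_coe]
          rw [show p = (p.1, p.2) from rfl, rmul_X]
          simp [one, M]) Q
    have h2 := congrArg (eval one) (hQM M)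
    rw [map_mul, map_mul, map_pow, eval_C, h1] at h2
    rw [map_mul, map_mul, map_mul, map_pow, eval_C, hdt, h2]
    ring
  have : Infinite k := Infinite.of_injective (Nat.cast : ℕ → k) Nat.cast_injective
  have hd0 : dt n k ≠ 0 := fun h => rho_ne_zero (n := n) (k := k) 1 (by simp [rho, h])
  have hQeq : Q = C c * dt n k ^ m := mul_left_cancel₀ hd0 (MvPolynomial.funext hev)
  have hfun : ∀ g, pair (dt n k ^ (m + 1)) (dt n k * g) = c * pair (dt n k ^ m) g := fun g => by
    rw [hQ, hQeq, ← smul_eq_C_mul, map_smul, LinearMap.smul_apply, smul_eq_mul]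
  have hc := hfun (dt n k ^ m)
  rw [← pow_succ'] at hc
  change rho n k (m + 1) = c * rho n k m at hc
  rw [hfun, hc]
  ring

/-- The value of the integral on a homogeneous polynomial of degree `D`. -/
noncomputable def phiDeg {B : Type u} [CommRing B] [Algebra k B] (D : ℕ) : MvPolynomial (V n) B →ₗ[B] B :=
  if n ∣ D then algebraMap k B (rho n k (D / n))⁻¹ • pair (dt n B ^ (D / n)) else 0

variable (k) in
/-- the integral -/
noncomputable def phi (B : Type u) [CommRing B] [Algebra k B] : MvPolynomial (V n) B →ₗ[B] B :=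
  (basisMonomials (V n) B).constr B fun e => phiDeg (k := k) (B := B) e.degree (monomial e 1)

theorem phi_of_homogeneous {B : Type u} [CommRing B] [Algebra k B] {D : ℕ} {P : MvPolynomial (V n) B}
    (hP : P.IsHomogeneous D) : phi k B P = phiDeg (k := k) D P := by
  conv_lhs => rw [P.as_sum]
  conv_rhs => rw [P.as_sum]
  rw [map_sum, map_sum]
  refine Finset.sum_congr rfl fun e he => ?_
  have hd : e.degree = D := by rw [Finsupp.degree_eq_weight_one]; exact hP (mem_support_iff.1 he)
  rw [show monomial e (P.coeff e) = P.coeff e • monomial e (1 : B) by rw [smul_monomial, smul_eq_mul, mul_one],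
    map_smul, map_smul, show monomial e (1 : B) = basisMonomials (V n) B e by simp, phi, Module.Basis.constr_basis, hd]
  simp

/-- The comultiplication of the matrix monoid is right multiplication by the generic point. -/
theorem lid_map_comul {k : Type u} [Field k] {B : Type u} [CommRing B] [Algebra k B] (π : Mat n k →ₐ[k] B)
    (ψ : Mat n k →ₗ[k] k) (ψB : MvPolynomial (V n) B →ₗ[B] B)
    (hψ : ∀ p : MvPolynomial (V n) k, ψB (map (algebraMap k B) p) = algebraMap k B (ψ p)) (f : Mat n k) :
    TensorProduct.lid k B (TensorProduct.map ψ π.toLinearMap (Coalgebra.comul (R := k) f)) =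
      ψB (rmul (fun i j => π (Mat.X i j)) (map (algebraMap k B) (f : MvPolynomial (V n) k))) := by
  let Φ : Mat n k ⊗[k] Mat n k →ₐ[k] MvPolynomial (V n) B :=
    Algebra.TensorProduct.lift (MvPolynomial.aeval X : MvPolynomial (V n) k →ₐ[k] MvPolynomial (V n) B)
      ((IsScalarTower.toAlgHom k B (MvPolynomial (V n) B)).comp π) fun _ _ => Commute.all _ _
  have hmap : ∀ p : MvPolynomial (V n) k,
      (MvPolynomial.aeval X : MvPolynomial (V n) k →ₐ[k] MvPolynomial (V n) B) p = map (algebraMap k B) p := fun p => by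
    induction p using MvPolynomial.induction_on with
    | C c => simp
    | add p q hp hq => simp only [map_add, hp, hq]
    | mul_X p i hp => simp [map_mul, hp]
  have hΦ : ∀ w : Mat n k ⊗[k] Mat n k,
      TensorProduct.lid k B (TensorProduct.map ψ π.toLinearMap w) = ψB (Φ w) := fun w => by
    induction w using TensorProduct.induction_on with
    | zero => simp
    | tmul p x =>
      have h : Φ (p ⊗ₜ x) = map (algebraMap k B) (p : MvPolynomial (V n) k) * C (π x) := by
        simp only [Φ, Algebra.TensorProduct.lift_tmul, AlgHom.comp_apply, IsScalarTower.coe_toAlgHom',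
          MvPolynomial.algebraMap_eq]
        congr 1
        exact hmap p
      rw [TensorProduct.map_tmul, TensorProduct.lid_tmul, h, mul_comm, ← smul_eq_C_mul, map_smul, hψ,
        smul_eq_mul, Algebra.smul_def, mul_comm]
      rfl
    | add a b ha hb => simp only [map_add, ha, hb]
  rw [hΦ]
  refine congrArg ψB ?_
  refine AlgHom.congr_fun (φ₁ := Φ.comp (Bialgebra.comulAlgHom k (Mat n k)))
    (φ₂ := (((rmul fun i j => π (Mat.X i j)).restrictScalars k).comp
      (MvPolynomial.mapAlgHom (Algebra.ofId k B)) : MvPolynomial (V n) k →ₐ[k] MvPolynomial (V n) B))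
    (Mat.algHom_ext fun i j => ?_) f
  rw [AlgHom.comp_apply, Bialgebra.comulAlgHom_apply, Mat.comul_X, map_sum]
  refine Eq.trans ?_ (congrArg (rmul fun i j => π (Mat.X i j)) (map_X (algebraMap k B) (i, j))).symm
  rw [rmul_X]
  refine Finset.sum_congr rfl fun l _ => ?_
  simp only [Φ, Algebra.TensorProduct.lift_tmul, AlgHom.comp_apply, IsScalarTower.coe_toAlgHom',
    MvPolynomial.algebraMap_eq]
  rw [mul_comm]
  congr 1
  exact MvPolynomial.aeval_X _ _

theorem phi_map (B : Type u) [CommRing B] [Algebra k B] (p : MvPolynomial (V n) k) :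
    phi k B (map (algebraMap k B) p) = algebraMap k B (phi k k p) := by
  induction p using MvPolynomial.induction_on' with
  | monomial e c =>
    rw [phi_of_homogeneous (isHomogeneous_monomial _ rfl), phi_of_homogeneous
      ((isHomogeneous_monomial _ rfl).map (algebraMap k B))]
    unfold phiDeg
    split_ifs
    · rw [LinearMap.smul_apply, LinearMap.smul_apply, ← map_dt (algebraMap k B), ← map_pow, pair_map,
        smul_eq_mul, smul_eq_mul, map_mul, Algebra.algebraMap_self, RingHom.id_apply]
    · simp
  | add p q hp hq => simp only [map_add, hp, hq]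

/-- The integral of a right translate of a homogeneous polynomial. -/
theorem phi_rmul {B : Type u} [CommRing B] [Algebra k B] (M : Matrix (Fin n) (Fin n) B) {D : ℕ}
    {q : MvPolynomial (V n) B} (hq : q.IsHomogeneous D) :
    phi k B (rmul M q) = M.det ^ (D / n) * phi k B q := by
  rw [phi_of_homogeneous (rmul_isHomogeneous M hq), phi_of_homogeneous hq]
  unfold phiDeg
  split_ifs
  · have h2 : rmul M.transpose (dt n B ^ (D / n)) = (M.det ^ (D / n)) • dt n B ^ (D / n) := by
      rw [map_pow, rmul_dt, Matrix.det_transpose, mul_pow, ← map_pow, smul_eq_C_mul]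
    rw [LinearMap.smul_apply, LinearMap.smul_apply]
    conv_lhs => rw [← M.transpose_transpose, ← pair_rmul, h2, map_smul, LinearMap.smul_apply]
    simp only [smul_eq_mul]
    ring
  · simp

variable (hn : 0 < n)
include hn

theorem phi_dt_mul (f : MvPolynomial (V n) k) : phi k k (dt n k * f) = phi k k f := by
  induction f using MvPolynomial.induction_on' with
  | add p q hp hq => rw [mul_add, map_add, map_add, hp, hq]
  | monomial e c =>
    have hm : (monomial e c).IsHomogeneous e.degree := isHomogeneous_monomial _ rfl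
    rw [phi_of_homogeneous hm, phi_of_homogeneous ((isHomogeneous_dt k).mul hm)]
    unfold phiDeg
    by_cases hd : n ∣ e.degree
    · obtain ⟨m, hm'⟩ := hd
      rw [if_pos (by rw [hm']; exact ⟨m + 1, by ring⟩), if_pos (by rw [hm']; exact dvd_mul_right _ _), hm',
        show n + n * m = n * (m + 1) by ring, Nat.mul_div_cancel_left _ hn, Nat.mul_div_cancel_left _ hn]
      simp only [Algebra.algebraMap_self, RingHom.id_apply, LinearMap.smul_apply, smul_eq_mul]
      rw [inv_mul_eq_div, inv_mul_eq_div, div_eq_div_iff (rho_ne_zero _) (rho_ne_zero _), pair_dt_mul]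
      ring
    · rw [if_neg hd, if_neg fun h => hd ((Nat.dvd_add_self_left).1 h)]
      simp

/-- the integral on the coordinate ring -/
theorem exists_integral :
    ∃ α : SLn n k →ₗ[k] k, Comodule.IsInvariant α ∧ α 1 = 1 := by
  classical
  let π : Mat n k →ₐ[k] SLn n k := (HM.toSL k n : Mat n k →ₐ[k] SLn n k)
  let φ : Mat n k →ₗ[k] k := phi k k
  let J : Ideal (Mat n k) := Ideal.span {dt n k - 1}
  have hJ : ∀ x ∈ J, φ x = 0 := fun x hx => by
    obtain ⟨h, rfl⟩ := Ideal.mem_span_singleton'.1 hx
    have key : ∀ g : MvPolynomial (V n) k, phi k k (g * (dt n k - 1)) = 0 := fun g => by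
      rw [mul_sub, map_sub, mul_one, mul_comm, phi_dt_mul hn, sub_self]
    exact key h
  let gen : Matrix (Fin n) (Fin n) (Mat n k ⧸ J) := fun i j => Ideal.Quotient.mk J (Mat.X i j)
  have hgen : gen.det = 1 := by
    have : (Ideal.Quotient.mk J).mapMatrix (Mat.genMat n k) = gen := rfl
    rw [← this, ← RingHom.map_det, ← map_one (Ideal.Quotient.mk J), Ideal.Quotient.eq]
    exact Ideal.subset_span rfl
  let inv : SLn n k →ₐ[k] Mat n k ⧸ J := SLn.pt n k gen hgen
  have hinv : ∀ x, inv (π x) = Ideal.Quotient.mk J x := fun x => by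
    refine AlgHom.congr_fun (φ₁ := inv.comp π) (φ₂ := Ideal.Quotient.mkₐ k J) (Mat.algHom_ext fun i j => ?_) x
    rw [AlgHom.comp_apply]
    exact (congrArg inv (HM.toSL_X i j)).trans (SLn.pt_X gen hgen i j)
  have hsurj : Function.Surjective π := fun y => by
    have := HM.apply_mem_subalgebra π.range (AlgHom.id k (SLn n k))
      (fun i j => ⟨Mat.X i j, HM.toSL_X i j⟩) y
    exact this
  let α₀ : (Mat n k ⧸ J) →ₗ[k] k := (J.restrictScalars k).liftQ φ (fun x hx => hJ x hx)
  let α : SLn n k →ₗ[k] k := α₀ ∘ₗ inv.toLinearMap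
  have hα : ∀ x, α (π x) = φ x := fun x => by
    change α₀ (inv (π x)) = φ x
    rw [hinv]
    rfl
  refine ⟨α, fun a => ?_, ?_⟩
  swap
  · rw [← map_one π, hα]
    change phi k k 1 = 1
    rw [phi_of_homogeneous (isHomogeneous_one _ _), phiDeg, if_pos (dvd_zero n), Nat.zero_div]
    have h1 : pair (1 : MvPolynomial (V n) k) 1 = 1 := by
      rw [← MvPolynomial.C_1, pair_C, coeff_zero_C, one_mul]
    simp only [rho, pow_zero, LinearMap.smul_apply, h1, inv_one, map_one, one_smul]
  obtain ⟨f, rfl⟩ := hsurj a
  rw [hα]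
  have hcomul : Coalgebra.comul (R := k) (π f) =
      TensorProduct.map π.toLinearMap π.toLinearMap (Coalgebra.comul (R := k) f) :=
    (LinearMap.congr_fun (HM.toSL k n).map_comp_comul f).symm
  have hLHS : α.rTensor (SLn n k) (TensorProduct.map π.toLinearMap π.toLinearMap (Coalgebra.comul (R := k) f)) =
      TensorProduct.map φ π.toLinearMap (Coalgebra.comul (R := k) f) := by
    induction Coalgebra.comul (R := k) f using TensorProduct.induction_on with
    | zero => simp
    | tmul a b =>
      rw [TensorProduct.map_tmul, TensorProduct.map_tmul, LinearMap.rTensor_tmul]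
      exact congrArg (· ⊗ₜ[k] π b) (hα a)
    | add a b ha hb => simp only [map_add, ha, hb]
  rw [hcomul, hLHS, Algebra.smul_def, mul_one]
  refine (lid_map_comul π φ (phi k (SLn n k)) (phi_map _) f).trans ?_
  have hM : (Matrix.of fun i j => π (Mat.X i j)).det = 1 := by
    have h : (Matrix.of fun i j => π (Mat.X i j)) = HM.ptMat (AlgHom.id k (SLn n k)) :=
      Matrix.ext fun i j => HM.toSL_X i j
    rw [h, HM.det_ptMat]
  change phi k (SLn n k) (rmul (Matrix.of fun i j => π (Mat.X i j))
    (map (algebraMap k (SLn n k)) (f : MvPolynomial (V n) k))) = algebraMap k _ (phi k k f)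
  rw [← phi_map (SLn n k)]
  generalize (f : MvPolynomial (V n) k) = g
  induction g using MvPolynomial.induction_on' with
  | add p q hp hq => simp only [map_add, hp, hq]
  | monomial e c =>
    rw [phi_rmul _ ((isHomogeneous_monomial c rfl).map (algebraMap k (SLn n k))), hM, one_pow, one_mul]

end GrothLib.SLInt
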