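import Mathlib.Algebra.MvPolynomial.PDeriv
import Mathlib.Algebra.MvPolynomial.CommRing
import Mathlib.RingTheory.MvPolynomial.Homogeneous
import Mathlib.LinearAlgebra.Matrix.Adjugate

/-!
# The apolar pairing
-/

universe u

open MvPolynomial

namespace GrothLib.SLInt

variable {σ : Type} [Finite σ] {B : Type u} [CommRing B]

/-- `e!` -/
noncomputable def efac (e : σ →₀ ℕ) : ℕ := e.prod fun _ c => c.factorial

theorem efac_pos (e : σ →₀ ℕ) : 0 < efac e := Finset.prod_pos fun _ _ => Nat.factorial_pos _

theorem efac_add_single (e : σ →₀ ℕ) (i : σ) : efac (e + Finsupp.single i 1) = efac e * (e i + 1) := by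
  classical
  letI := Fintype.ofFinite σ
  simp only [efac, Finsupp.prod_fintype _ _ fun _ => Nat.factorial_zero]
  rw [Fintype.prod_eq_mul_prod_compl i, Fintype.prod_eq_mul_prod_compl i (fun j => (e j).factorial)]
  have h : ∀ j ∈ ({i} : Finset σ)ᶜ, ((e + Finsupp.single i 1 : σ →₀ ℕ) j).factorial = (e j).factorial := fun j hj => by
    rw [Finset.mem_compl, Finset.mem_singleton] at hj
    simp [Finsupp.single_eq_of_ne hj]
  rw [Finset.prod_congr rfl h, Finsupp.add_apply, Finsupp.single_eq_same, Nat.factorial_succ]
  ring

/-- `⟨P, f⟩ = ∑ e! P_e f_e` -/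
noncomputable def pair : MvPolynomial σ B →ₗ[B] MvPolynomial σ B →ₗ[B] B :=
  (basisMonomials σ B).constr B fun e => ((efac e : B)) • lcoeff B e

theorem pair_monomial (e : σ →₀ ℕ) (c : B) (f : MvPolynomial σ B) :
    pair (monomial e c) f = (efac e : B) * c * f.coeff e := by
  rw [show monomial e c = c • basisMonomials σ B e by simp [smul_monomial], map_smul, pair, Module.Basis.constr_basis]
  simp only [LinearMap.smul_apply, lcoeff_apply, smul_eq_mul]
  ring

theorem pair_sum (P f : MvPolynomial σ B) :
    pair P f = ∑ e ∈ P.support, (efac e : B) * P.coeff e * f.coeff e := by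
  conv_lhs => rw [P.as_sum, map_sum, LinearMap.sum_apply]
  exact Finset.sum_congr rfl fun e _ => pair_monomial e _ f

theorem pair_comm (P f : MvPolynomial σ B) : pair P f = pair f P := by
  classical
  rw [pair_sum, pair_sum, Finset.sum_subset Finset.subset_union_left (s₂ := P.support ∪ f.support) (fun e _ he => by
    rw [notMem_support_iff.1 he, mul_zero, zero_mul]),
    Finset.sum_subset Finset.subset_union_right (s₂ := P.support ∪ f.support) (fun e _ he => by
    rw [notMem_support_iff.1 he, mul_zero, zero_mul])]
  exact Finset.sum_congr rfl fun e _ => by ring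

theorem pair_X_mul (i : σ) (Q f : MvPolynomial σ B) : pair (X i * Q) f = pair Q (pderiv i f) := by
  induction Q using MvPolynomial.induction_on' with
  | monomial e c =>
    rw [X, monomial_mul, one_mul, pair_monomial, pair_monomial, coeff_pderiv, add_comm, efac_add_single]
    push_cast
    ring
  | add p q hp hq => rw [mul_add, map_add, LinearMap.add_apply, hp, hq, map_add, LinearMap.add_apply]

theorem pair_C (c : B) (f : MvPolynomial σ B) : pair (C c) f = c * f.coeff 0 := by
  rw [C_apply, pair_monomial]
  simp [efac]

theorem eq_of_pair {K : Type u} [Field K] [CharZero K] {P Q : MvPolynomial σ K}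
    (h : ∀ f, pair P f = pair Q f) : P = Q := by
  ext e
  have := h (monomial e 1)
  rw [pair_comm P, pair_comm Q, pair_monomial, pair_monomial] at this
  exact mul_left_cancel₀ (by simpa using (efac_pos e).ne') this

theorem pair_map {B' : Type*} [CommRing B'] (φ : B →+* B') (P f : MvPolynomial σ B) :
    pair (MvPolynomial.map φ P) (MvPolynomial.map φ f) = φ (pair P f) := by
  induction P using MvPolynomial.induction_on' with
  | monomial e c => rw [map_monomial, pair_monomial, pair_monomial, coeff_map, map_mul, map_mul, map_natCast]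
  | add p q hp hq => simp only [map_add, LinearMap.add_apply, hp, hq]

/-- Multiplication has an adjoint. -/
theorem exists_adjoint (D : MvPolynomial σ B) : ∀ P, ∃ Q, ∀ f, pair P (D * f) = pair Q f := by
  induction D using MvPolynomial.induction_on with
  | C c => exact fun P => ⟨c • P, fun f => by rw [← smul_eq_C_mul, map_smul, map_smul, LinearMap.smul_apply]⟩
  | add p q hp hq =>
    intro P
    obtain ⟨Q₁, h₁⟩ := hp P
    obtain ⟨Q₂, h₂⟩ := hq P
    exact ⟨Q₁ + Q₂, fun f => by rw [add_mul, map_add, map_add, LinearMap.add_apply, h₁, h₂]⟩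
  | mul_X p i hp =>
    intro P
    obtain ⟨Q, hQ⟩ := hp P
    exact ⟨pderiv i Q, fun f => by rw [mul_assoc, hQ, pair_comm Q, pair_X_mul, pair_comm]⟩

/-- Linear substitution. -/
noncomputable def lsub (M : σ → σ → B) : MvPolynomial σ B →ₐ[B] MvPolynomial σ B :=
  letI := Fintype.ofFinite σ
  aeval fun i => ∑ j, C (M i j) * X j

/-- Substitution is adjoint to the transposed substitution. -/
theorem pair_lsub (M : σ → σ → B) (P : MvPolynomial σ B) :
    ∀ f, pair (lsub M P) f = pair P (lsub (fun i j => M j i) f) := by
  classical
  letI := Fintype.ofFinite σ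
  let M' : σ → σ → B := fun i j => M j i
  have hd : ∀ (i : σ) (f : MvPolynomial σ B),
      pderiv i (lsub M' f) = ∑ l, C (M i l) * lsub M' (pderiv l f) := by
    intro i f
    induction f using MvPolynomial.induction_on with
    | C c => simp [lsub]
    | add p q hp hq => simp only [map_add, hp, hq, mul_add, Finset.sum_add_distrib]
    | mul_X p j hp =>
      have hX : lsub M' (X j) = ∑ l, C (M l j) * X l := aeval_X _ j
      rw [map_mul, pderiv_mul, hp, hX, map_sum]
      have h1 : ∑ l, pderiv i (C (M l j) * X l : MvPolynomial σ B) = C (M i j) := by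
        rw [Finset.sum_eq_single i (fun l _ hl => by simp [pderiv_C_mul, pderiv_X, Pi.single_apply, hl])
          (fun h => absurd (Finset.mem_univ i) h)]
        simp [pderiv_C_mul]
      rw [h1]
      simp only [pderiv_mul, map_add, map_mul, hX, mul_add, Finset.sum_add_distrib, Finset.sum_mul]
      congr 1
      · exact Finset.sum_congr rfl fun l _ => mul_assoc _ _ _
      · rw [Finset.sum_eq_single j (fun l _ hl => by simp [pderiv_X, Pi.single_apply, hl.symm])
          (fun h => absurd (Finset.mem_univ j) h)]
        simp [mul_comm]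
  induction P using MvPolynomial.induction_on with
  | C c =>
    intro f
    rw [show lsub M (C c) = C c from aeval_C _ c, pair_C, pair_C]
    congr 1
    induction f using MvPolynomial.induction_on with
    | C a => simp [lsub]
    | add p q hp hq => simp only [map_add, coeff_add, hp, hq]
    | mul_X p j _ =>
      rw [map_mul, ← constantCoeff_eq, map_mul, map_mul, constantCoeff_X, mul_zero]
      simp [lsub]
  | add p q hp hq => intro f; simp only [map_add, LinearMap.add_apply, hp f, hq f]
  | mul_X p i hp =>
    intro f
    rw [mul_comm p, pair_X_mul, hd, map_sum, map_mul,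
      show lsub M (X i) = ∑ l, C (M i l) * X l from aeval_X _ i, Finset.sum_mul, map_sum, LinearMap.sum_apply]
    refine Finset.sum_congr rfl fun l _ => ?_
    rw [mul_assoc, ← smul_eq_C_mul, map_smul, LinearMap.smul_apply, pair_X_mul, hp, ← smul_eq_C_mul, map_smul]

end GrothLib.SLInt
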